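import Cfsg.Agent.Lib.Helper58.G24M.ValidAll

/-!
# S2102: a permutation model of the double cover `2.G₂(4)` on 8064 points

`gm i` (`i < 4`) are permutations of `Fin 8064` (the cosets of a subgroup `U₃(4)` of the cover) of order
seven satisfying all the safe relators; the word `wz` has a central value of order two.
-/

set_option autoImplicit false
set_option maxRecDepth 1000000
set_option maxHeartbeats 0
set_option Elab.async false

namespace Cfsg.Agent.Lib.Helper58.G24M.Mod

open Cfsg.Agent.Lib.Helper93.BigPerm Cfsg.Agent.Lib.Helper89.TableChain2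
open Cfsg.Agent.Lib.Helper89.CosetCert Cfsg.Agent.Lib.Helper89.SafePres
open Cfsg.Agent.Lib.Helper58.G24M

/-- the generators of the model -/
noncomputable def gm (i : ℕ) : Equiv.Perm (Fin 8064) := Model.gm Md_ok i

theorem gm_eq_one (i : ℕ) (h : 6 ≤ i) : gm i = 1 := by
  unfold gm Model.gm Model.perm
  rw [dif_neg (by show ¬ 2 * i < 2 * 6; omega)]
  rfl

theorem Md_pow0 : Md.chk (powWord 7 0) 0 8064 = true := by decide +kernel

theorem Md_pow1 : Md.chk (powWord 7 1) 0 8064 = true := by decide +kernel

theorem Md_pow2 : Md.chk (powWord 7 2) 0 8064 = true := by decide +kernel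

theorem Md_pow3 : Md.chk (powWord 7 3) 0 8064 = true := by decide +kernel

theorem Md_pow4 : Md.chk (powWord 7 4) 0 8064 = true := by decide +kernel

theorem Md_pow5 : Md.chk (powWord 7 5) 0 8064 = true := by decide +kernel

theorem gm_pow (i : ℕ) : gm i ^ ord i = 1 := by
  by_cases h : i < 6
  · interval_cases i
    · exact Model.gm_pow' Md_ok 0 7 Md_pow0
    · exact Model.gm_pow' Md_ok 1 7 Md_pow1
    · exact Model.gm_pow' Md_ok 2 7 Md_pow2
    · exact Model.gm_pow' Md_ok 3 7 Md_pow3
    · exact Model.gm_pow' Md_ok 4 7 Md_pow4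
    · exact Model.gm_pow' Md_ok 5 7 Md_pow5
  · rw [gm_eq_one i (by omega), one_pow]

theorem hvalidM : ∀ r ∈ srelsAll, ev gm r.word = 1 := fun r hr =>
  validAll _ (List.mem_map_of_mem hr)

/-- `n` copies of a word -/
def wrep (n : ℕ) (w : Word) : Word := (List.replicate n w).flatten

theorem ev_wrep {L : Type*} [Group L] (t : ℕ → L) (n : ℕ) (w : Word) :
    ev t (wrep n w) = ev t w ^ n := by
  unfold wrep
  induction n with
  | zero => simp
  | succ n ih => rw [List.replicate_succ, List.flatten_cons, ev_append, ih, pow_succ']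

/-- the relator expressing that the word `w` commutes with the generator `i` -/
def centRelW (w : Word) (i : ℕ) : Word := 2 * i :: (w ++ (2 * i + 1) :: winv w)

theorem comm_of_relW {L : Type*} [Group L] (t : ℕ → L) (w : Word) (i : ℕ)
    (hv : ev t (centRelW w i) = 1) : t i * ev t w = ev t w * t i := by
  unfold centRelW at hv
  rw [ev_cons, ev_append, ev_cons, ev_winv, lv_two_mul, lv_two_mul_add_one] at hv
  have h2 : t i * ev t w = (t i * (ev t w * ((t i)⁻¹ * (ev t w)⁻¹))) * (ev t w * t i) := by
    group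
  rw [h2, hv, one_mul]

theorem Md_cent_0 : Md.chk (centRelW wz 0) 0 8064 = true := by decide +kernel

theorem Md_cent_1 : Md.chk (centRelW wz 1) 0 8064 = true := by decide +kernel

theorem Md_cent_2 : Md.chk (centRelW wz 2) 0 8064 = true := by decide +kernel

theorem Md_cent_3 : Md.chk (centRelW wz 3) 0 8064 = true := by decide +kernel

theorem Md_cent_4 : Md.chk (centRelW wz 4) 0 8064 = true := by decide +kernel

theorem Md_cent_5 : Md.chk (centRelW wz 5) 0 8064 = true := by decide +kernel

theorem z_comm (i : ℕ) (h : i < 6) : gm i * ev gm wz = ev gm wz * gm i := by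
  apply comm_of_relW
  interval_cases i
  · exact Model.ev_one_of_chk1 Md_ok _ Md_cent_0
  · exact Model.ev_one_of_chk1 Md_ok _ Md_cent_1
  · exact Model.ev_one_of_chk1 Md_ok _ Md_cent_2
  · exact Model.ev_one_of_chk1 Md_ok _ Md_cent_3
  · exact Model.ev_one_of_chk1 Md_ok _ Md_cent_4
  · exact Model.ev_one_of_chk1 Md_ok _ Md_cent_5

theorem Md_sq_wz : Md.chk (wrep 2 wz) 0 8064 = true := by decide +kernel

theorem z_sq : ev gm wz ^ 2 = 1 := by
  have := Model.ev_one_of_chk1 Md_ok (wrep 2 wz) Md_sq_wz
  rwa [ev_wrep] at this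

theorem wz_lt : ∀ c ∈ wz, c < 2 * Md.k := by decide

theorem wz_move : act Md.tab wz 0 ≠ 0 := by decide +kernel

theorem z_ne : ev gm wz ≠ 1 :=
  Model.ev_ne_one Md_ok wz wz_lt 0 (by decide) wz_move

end Cfsg.Agent.Lib.Helper58.G24M.Mod
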