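import Cfsg.Agent.Lib.Helper58.G24M.G
import Cfsg.Agent.Lib.Helper58.G24M.Mod
import Cfsg.Agent.Lib.Helper92.M22.StemE
import Cfsg.Agent.Lib.Helper89.StemSafe
import Cfsg.Agent.Lib.Helper89.MultTransfer
import Cfsg.Agent.Lib.Helper58.G2Transfer

/-!
# S2102: the Schur multiplier of `G₂(4)` is `Z/2`, given the presentation bound

Everything except the bound `|L| ≤ 2 |G₂(4)|` for groups satisfying the safe relators (which comes from the
coset enumeration certificates): the exponent of the kernel of a stem extension, the explicit double cover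
inside `Perm (Fin 8064) × G₂(4)`, and the application of `hasCyclic_of_model`.
-/

set_option autoImplicit false
set_option maxRecDepth 1000000
set_option maxHeartbeats 0

namespace Cfsg.Agent.Lib.Helper58.G24M

open Cfsg Cfsg.Agent.Lib.Helper89.CosetCert Cfsg.Agent.Lib.Helper89.SafePres
open Cfsg.Agent.Lib.Helper89.StemSafe Cfsg.Agent.Lib.Helper89.SafePres2
open Cfsg.Agent.Lib.Helper92.StemE
open Cfsg.Agent.Lib.Helper58.G24Levels
open scoped commutatorElement

/-! ### the exponent of the kernel of a stem extension -/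

theorem hexp (Γ : Type) [Group Γ] [Finite Γ] (σ : Γ →* G0)
    (hσ : Cfsg.IsStemExtension σ) : ∀ z ∈ σ.ker, z ^ 2764800 = 1 := by
  intro z hz
  have hc := pow_card_eq_one σ hσ hz
  rw [card_G0] at hc
  have hd : orderOf z ∣ 2764800 * 91 := by
    have := orderOf_dvd_of_pow_eq_one hc
    norm_num at this ⊢
    exact this
  have h7 : ¬ 7 ∣ orderOf z :=
    not_dvd_of_cyclic_sylow σ hσ 7 (by norm_num) G24Main.s7 1 35942400
      (by rw [pow_one]; exact G24Main.orderOf_s7)
      (by rw [card_G0]; norm_num) (by norm_num) hz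
  have h13 : ¬ 13 ∣ orderOf z :=
    not_dvd_of_cyclic_sylow σ hσ 13 (by norm_num) G24Main.s13 1 19353600
      (by rw [pow_one]; exact G24Main.orderOf_s13)
      (by rw [card_G0]; norm_num) (by norm_num) hz
  have hcop : Nat.Coprime (orderOf z) 91 := by
    have e : (91 : ℕ) = 7 * 13 := by norm_num
    rw [e]
    refine Nat.Coprime.mul_right ?_ ?_
    · exact (Nat.Coprime.symm ((Nat.Prime.coprime_iff_not_dvd (by norm_num)).2 h7))
    · exact (Nat.Coprime.symm ((Nat.Prime.coprime_iff_not_dvd (by norm_num)).2 h13))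
  exact orderOf_dvd_iff_pow_eq_one.mp (hcop.dvd_of_dvd_mul_right hd)

/-! ### the explicit cover -/

/-- the generators of the cover inside `Perm (Fin 8064) × G₂(4)` -/
noncomputable def tau (i : ℕ) : Equiv.Perm (Fin 8064) × G0 := (Mod.gm i, g i)

/-- the cover -/
noncomputable def Gam : Subgroup (Equiv.Perm (Fin 8064) × G0) :=
  Subgroup.closure {y | ∃ i < 6, y = tau i}

theorem tau_mem (i : ℕ) : tau i ∈ Gam := by
  by_cases hi : i < 6
  · exact Subgroup.subset_closure ⟨i, hi, rfl⟩
  · have h1 : tau i = 1 := by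
      unfold tau
      rw [Mod.gm_eq_one i (by omega), g_eq_one i (by omega)]
      rfl
    rw [h1]
    exact Gam.one_mem

/-- the generators as elements of the cover -/
noncomputable def tau' (i : ℕ) : Gam := ⟨tau i, tau_mem i⟩

theorem ev_tau' (w : Word) : ((ev tau' w : Gam) : Equiv.Perm (Fin 8064) × G0) =
    (ev Mod.gm w, ev g w) := by
  have h1 := ev_map_hom Gam.subtype tau' w
  have h2 : (fun i => Gam.subtype (tau' i)) = fun i => (Mod.gm i, g i) := rfl
  rw [h2, ev_prod] at h1
  exact h1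

theorem ev_tau'_eq_one (w : Word) (h1 : ev Mod.gm w = 1) (h2 : ev g w = 1) : ev tau' w = 1 := by
  apply Subtype.ext
  rw [ev_tau', h1, h2]
  rfl

/-- the projection of the cover onto `G₂(4)` -/
noncomputable def sig : Gam →* G0 := (MonoidHom.snd _ _).comp Gam.subtype

theorem sig_tau' (i : ℕ) : sig (tau' i) = g i := rfl

theorem tau'_pow (i : ℕ) : tau' i ^ ord i = 1 := by
  apply Subtype.ext
  show (Mod.gm i, g i) ^ ord i = 1
  rw [Prod.pow_mk, Mod.gm_pow, g_pow]
  rfl

theorem tau'_rel : ∀ r ∈ srelsAll, ev tau' r.word = 1 := fun r hr =>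
  ev_tau'_eq_one _ (Mod.hvalidM r hr) (hvalid r hr)

theorem tau'_gen : Subgroup.closure {y | ∃ i < 6, y = tau' i} = ⊤ := by
  have h := Subgroup.closure_closure_coe_preimage (k := {y | ∃ i < 6, y = tau i})
  have e : {y : Gam | ∃ i < 6, y = tau' i} =
      ((↑) ⁻¹' {y | ∃ i < 6, y = tau i} : Set Gam) := by
    ext y
    constructor
    · rintro ⟨i, hi, rfl⟩
      exact ⟨i, hi, rfl⟩
    · rintro ⟨i, hi, h⟩
      exact ⟨i, hi, Subtype.ext h⟩
  rw [e]
  exact h

theorem self_mem : ∀ i < 6, ∃ r ∈ selfRels, r.i = i ∧ r.j = i ∧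
    ¬ ((ord i : ℤ) ∣ (if r.neg then -(r.f : ℤ) else (r.f : ℤ)) - 1) := by decide

theorem selfRels_sub : ∀ r ∈ selfRels, r ∈ srelsAll := fun r hr => by
  unfold srelsAll
  exact List.mem_append_right _ hr

theorem ord_prime : ∀ i < 6, (ord i).Prime := by
  intro i hi
  rw [ord_lt i hi]
  norm_num

theorem tau'_perf : ∀ i < 6, tau' i ∈ commutator Gam := by
  intro i hi
  obtain ⟨r, hr, hri, hrj, hz⟩ := self_mem i hi
  have h := (ev_srel_eq_one_iff tau' r).mp (tau'_rel r (selfRels_sub r hr))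
  rw [hri, hrj] at h
  exact mem_commutator_of_conj (ev tau' r.W) (tau' i) (ord i) (ord_prime i hi) (tau'_pow i) _ h hz

/-! ### the central element -/

/-- the central element of order two of the cover -/
noncomputable def zz : Gam := ev tau' wz

theorem zz_coe : (zz : Equiv.Perm (Fin 8064) × G0) = (ev Mod.gm wz, 1) := by
  unfold zz
  rw [ev_tau', z_g]

theorem zz_ker : sig zz = 1 := by
  show ((zz : Gam) : Equiv.Perm (Fin 8064) × G0).2 = 1
  rw [zz_coe]

theorem zz_sq : zz ^ 2 = 1 := by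
  apply Subtype.ext
  rw [Subgroup.coe_pow, zz_coe, Prod.pow_mk, Mod.z_sq, one_pow]
  rfl

theorem zz_ne : zz ≠ 1 := by
  intro h
  have h1 := congrArg (fun y : Gam => (y : Equiv.Perm (Fin 8064) × G0).1) h
  simp only [zz_coe] at h1
  exact Mod.z_ne h1

theorem orderOf_zz : orderOf zz = 2 := by
  have : Fact (Nat.Prime 2) := ⟨Nat.prime_two⟩
  exact orderOf_eq_prime zz_sq zz_ne

theorem zz_comm : ∀ i < 6, tau' i * zz = zz * tau' i := by
  intro i hi
  apply Subtype.ext
  rw [Subgroup.coe_mul, Subgroup.coe_mul, zz_coe]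
  show (Mod.gm i, g i) * (ev Mod.gm wz, 1) = (ev Mod.gm wz, 1) * (Mod.gm i, g i)
  rw [Prod.mk_mul_mk, Prod.mk_mul_mk, Mod.z_comm i hi, mul_one, one_mul]

/-- **The Schur multiplier of the concrete `G₂(4)` is `Z/2`**, given the presentation bound. -/
theorem main0_of_bound
    (hbound : ∀ (L : Type) [Group L] [Finite L] (t : ℕ → L), (∀ i, t i ^ ord i = 1) →
      (∀ r ∈ srelsAll, ev t r.word = 1) →
      Nat.card (Subgroup.closure {y | ∃ i < 6, y = t i}) ≤ 2 * 251596800) :
    Cfsg.HasCyclicSchurMultiplier G0 2 := by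
  refine hasCyclic_of_model 2764800 2 (by norm_num) hexp 6 g ord g_pow ord_coprime closure_g
    srelsAll hvalid ?_ Gam sig tau' sig_tau' tau'_pow tau'_rel tau'_gen zz zz_ker orderOf_zz zz_comm
    tau'_perf
  intro L _ _ t ht hs
  rw [card_G0]
  exact hbound L t ht hs

universe u

/-- the Chevalley group over any field with four elements is the concrete group -/
noncomputable def toDs {F : Type u} [Field F] [Fintype F] (hF : Fintype.card F = 4) :
    ↥(Cfsg.Lie.chevG2.group F) ≃* G0 :=
  (toChev.trans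
    (Cfsg.Agent.Lib.Helper58.G2Transfer.groupEquiv Cfsg.Lie.chevG2
      (FiniteField.ringEquivOfCardEq (K := Cfsg.Agent.Lib.Helper14.SU32.F4c) (K' := F)
        (by rw [Cfsg.Agent.Lib.Helper14.SU32.F4c.card_eq, hF])))).symm

end Cfsg.Agent.Lib.Helper58.G24M
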