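import Mathlib

/-! # S2102: the generators of order seven as words in the eight letters of `D0` (generated) -/

set_option autoImplicit false
set_option maxRecDepth 1000000
set_option maxHeartbeats 0
set_option Elab.async false

namespace Cfsg.Agent.Lib.Helper58.G24M

/-- the words of the generators in the letters of `D0` -/
def tw : List (List ℕ) := [
  [0, 7, 0, 1, 3, 7, 0, 3, 1, 0, 5, 3, 1, 3, 1],
  [5, 3, 1, 3, 1, 7, 3, 0, 3, 0],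
  [2, 0, 5, 3, 1, 3, 1, 7, 3, 0, 3, 0, 2, 0],
  [2, 3, 0, 3, 0, 5, 3, 1, 3, 1, 7, 2],
  [2, 0, 5, 3, 1, 3, 1, 0, 7, 0, 1, 3, 7, 0, 3, 1, 0, 2, 0],
  [3, 0, 3, 0, 0, 1, 2, 0, 1, 0, 5, 3, 1, 3, 1, 7, 3, 0, 3, 0, 0, 1, 2, 0, 1, 0, 3, 0, 3, 0]]

/-- the orders of the generators -/
def ord (i : ℕ) : ℕ := [7, 7, 7, 7, 7, 7].getD i 1

/-- the eight letters of `D0` as words in the generators -/
def lw : List (List ℕ) := [
  [1, 3, 4, 1, 11, 9, 6, 2, 8],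
  [0, 6, 5, 0, 10, 5, 1, 4, 10, 10],
  [1, 8, 0, 11, 9, 10, 0, 4, 3],
  [5, 9, 9, 1, 7, 0, 4, 7, 9],
  [0, 5, 9, 1, 8, 1, 4, 6, 6, 10],
  [2, 5, 2, 5],
  [0, 0, 5, 2, 8, 6],
  [8, 8, 5, 6]]

/-- the central word -/
def wz : List ℕ := [0, 2, 4, 0, 2, 4, 0, 2, 4]

end Cfsg.Agent.Lib.Helper58.G24M
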