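import Cfsg.Agent.Lib.Helper30.G24.P3Data
import Cfsg.Agent.Lib.Helper58.G24M.Gens

/-! # S2102: the safe relators of all levels -/

set_option autoImplicit false
set_option maxRecDepth 1000000
set_option maxHeartbeats 0
set_option Elab.async false

namespace Cfsg.Agent.Lib.Helper58.G24M

open Cfsg.Agent.Lib.Helper89.CosetCert Cfsg.Agent.Lib.Helper89.SafePres

/-- conjugation relations `W t_i W⁻¹ = t_i ^ f`, `f ≠ 1`, used for perfectness -/
def selfRels : List SRel := [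
  ⟨[3, 10, 6], 0, 0, 2, false⟩,
  ⟨[4, 9, 9, 6], 1, 1, 2, false⟩,
  ⟨[9, 9, 6], 2, 2, 2, false⟩,
  ⟨[11, 2], 3, 3, 2, false⟩,
  ⟨[5, 3, 10, 4], 4, 4, 2, false⟩,
  ⟨[7, 11, 2], 5, 5, 2, false⟩]

/-- all conjugation relators -/
def srelsAll : List SRel := Cfsg.Agent.Lib.Helper30.G24.P3.srels ++ selfRels

end Cfsg.Agent.Lib.Helper58.G24M
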