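import Cfsg.Agent.Lib.Helper58.G24Pres
import Cfsg.Agent.Lib.Helper58.G24M.Rels

/-!
# S2102: the generators of order seven of `G₂(4)` inside the table-driven group `Ds`
-/

set_option autoImplicit false
set_option maxRecDepth 1000000
set_option maxHeartbeats 0
set_option Elab.async false

namespace Cfsg.Agent.Lib.Helper58.G24M

open Cfsg Cfsg.Agent.Lib.Helper89 Cfsg.Agent.Lib.Helper89.TableChain2
open Cfsg.Agent.Lib.Helper89.CosetCert Cfsg.Agent.Lib.Helper89.SafePres
open Cfsg.Agent.Lib.Helper58.G24Act Cfsg.Agent.Lib.Helper58.G24Levels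

/-- the concrete group -/
abbrev G0 : Type := ↥Ds

theorem tw_ok : G24Pres.twOK tw = true := by decide +kernel

/-- the generators -/
def g (i : ℕ) : G0 := G24Pres.g tw tw_ok i

theorem card_G0 : Nat.card G0 = 251596800 := card_H

theorem tw_len : tw.length = 6 := by decide

theorem g_eq_one (i : ℕ) (hi : 6 ≤ i) : g i = 1 := by
  apply Subtype.ext
  show D0.ev (tw.getD i []) = 1
  rw [List.getD_eq_default _ _ (by rw [tw_len]; exact hi)]
  rfl

theorem ord_lt (i : ℕ) (hi : i < 6) : ord i = 7 := by
  interval_cases i <;> rfl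

theorem ord_ge (i : ℕ) (hi : 6 ≤ i) : ord i = 1 := by
  unfold ord
  exact List.getD_eq_default _ _ (by simp only [List.length_cons, List.length_nil]; omega)

theorem powOK : G24Pres.relsOK tw [powWord 7 0, powWord 7 1, powWord 7 2, powWord 7 3, powWord 7 4, powWord 7 5] = true := by
  decide +kernel

theorem g_pow (i : ℕ) : g i ^ ord i = 1 := by
  by_cases h : i < 6
  · rw [ord_lt i h]
    have hv := G24Pres.relsOK_valid tw tw_ok _ powOK
    have h1 : ev g (powWord 7 i) = 1 := by
      apply hv
      interval_cases i <;> simp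
    rwa [ev_powWord] at h1
  · rw [g_eq_one i (by omega), one_pow]

theorem ord_coprime (i : ℕ) : (ord i).Coprime 2764800 := by
  by_cases h : i < 6
  · rw [ord_lt i h]
    decide
  · rw [ord_ge i (by omega)]
    exact Nat.coprime_one_left _

theorem lw_ok : ∀ j < 8, G24Pres.letterOK tw j (lw.getD j []) = true := by decide +kernel

theorem lw_lt : ∀ j < 8, ∀ c ∈ lw.getD j [], c < 2 * 6 := by decide

theorem closure_g : Subgroup.closure {y | ∃ i < 6, y = g i} = ⊤ :=
  G24Pres.closure_g tw tw_ok 6 lw lw_ok lw_lt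

theorem validG : G24Pres.relsOK tw (srelsAll.map SRel.word) = true := by decide +kernel

theorem hvalid : ∀ r ∈ srelsAll, ev g r.word = 1 := fun r hr =>
  G24Pres.relsOK_valid tw tw_ok _ validG _ (List.mem_map_of_mem hr)

theorem wz_ok : G24Pres.relsOK tw [wz] = true := by decide +kernel

/-- the central word is trivial in `G₂(4)` -/
theorem z_g : ev g wz = 1 :=
  G24Pres.relsOK_valid tw tw_ok _ wz_ok _ (List.mem_singleton.2 rfl)

end Cfsg.Agent.Lib.Helper58.G24M
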