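import Cfsg.Agent.Lib.Helper58.G24M.Core
import Cfsg.Agent.Lib.Helper89.Mult.O0Cert
import Cfsg.Agent.Lib.Helper89.Mult.O1Cert
import Cfsg.Agent.Lib.Helper89.Mult.G4L2Cert
import Cfsg.Agent.Lib.Helper30.G24.P3Cert

/-!
# S2102: the Schur multiplier of `G₂(4)` is `Z/2` (assembly with the coset enumeration certificates)

Chain `C₇ < U₃(3) < 2.J₂ < 2.G₂(4)` of indices `864, 200, 416` on generators of order seven:
levels `O0`, `O1` (helper89, the safe presentation of `U₃(3)`), `G4L2` (helper89) and `P3` (helper30).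
-/

set_option autoImplicit false
set_option maxRecDepth 1000000
set_option maxHeartbeats 0

namespace Cfsg.Agent.Lib.Helper58.G24M

open Cfsg Cfsg.Agent.Lib.Helper89.CosetCert Cfsg.Agent.Lib.Helper89.SafePres
open Cfsg.Agent.Lib.Helper89.Mult

theorem pw0 : ∀ q ∈ O0.pw, q.1 = ord q.2 ∧ q.2 < 6 := by decide
theorem pw1 : ∀ q ∈ O1.pw, q.1 = ord q.2 ∧ q.2 < 6 := by decide
theorem pw2 : ∀ q ∈ G4L2.pw, q.1 = ord q.2 ∧ q.2 < 6 := by decide
theorem pw3 : ∀ q ∈ Cfsg.Agent.Lib.Helper30.G24.P3.pw, q.1 = ord q.2 ∧ q.2 < 6 := by decide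

/-- the relator words of the first two levels occur among those of the top level -/
theorem words1_sub : ∀ w ∈ O1.srels.map SRel.word,
    w ∈ Cfsg.Agent.Lib.Helper30.G24.P3.srels.map SRel.word := by decide +kernel

theorem words2_sub : ∀ w ∈ G4L2.srels.map SRel.word,
    w ∈ Cfsg.Agent.Lib.Helper30.G24.P3.srels.map SRel.word := by decide +kernel

theorem closure_empty {L : Type*} [Group L] (t : ℕ → L) :
    Nat.card (Subgroup.closure {y | ∃ i < 0, y = t i}) ≤ 1 := by
  have : {y | ∃ i < 0, y = t i} = (∅ : Set L) := by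
    ext y
    simp
  rw [this, Subgroup.closure_empty, Subgroup.card_bot]

/-- the chain of coset enumerations bounds the order of any group satisfying the relators -/
theorem hbound (L : Type) [Group L] [Finite L] (t : ℕ → L) (ht : ∀ i, t i ^ ord i = 1)
    (hs : ∀ r ∈ srelsAll, ev t r.word = 1) :
    Nat.card (Subgroup.closure {y | ∃ i < 6, y = t i}) ≤ 2 * 251596800 := by
  have hs3 : ∀ r ∈ Cfsg.Agent.Lib.Helper30.G24.P3.srels, ev t r.word = 1 := fun r hr => hs r (by
    unfold srelsAll; exact List.mem_append_left _ hr)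
  have hs1 : ∀ r ∈ O1.srels, ev t r.word = 1 := by
    intro r hr
    obtain ⟨r', hr', he⟩ := List.mem_map.1 (words1_sub _ (List.mem_map_of_mem hr))
    rw [← he]
    exact hs3 r' hr'
  have hs2 : ∀ r ∈ G4L2.srels, ev t r.word = 1 := by
    intro r hr
    obtain ⟨r', hr', he⟩ := List.mem_map.1 (words2_sub _ (List.mem_map_of_mem hr))
    rw [← he]
    exact hs3 r' hr'
  have hr0 : ∀ r ∈ O0.cert.rels, ev t r = 1 := by
    show ∀ r ∈ O0.rels, ev t r = 1
    rw [O0.rels_eq]
    exact rels_valid t _ _ (fun q hq => by rw [(pw0 q hq).1]; exact ht _)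
      (fun _ hr => (O0.mem_srels hr).elim)
  have hr1 : ∀ r ∈ O1.cert.rels, ev t r = 1 := by
    show ∀ r ∈ O1.rels, ev t r = 1
    rw [O1.rels_eq]
    exact rels_valid t _ _ (fun q hq => by rw [(pw1 q hq).1]; exact ht _) hs1
  have hr2 : ∀ r ∈ G4L2.cert.rels, ev t r = 1 := by
    show ∀ r ∈ G4L2.rels, ev t r = 1
    rw [G4L2.rels_eq]
    exact rels_valid t _ _ (fun q hq => by rw [(pw2 q hq).1]; exact ht _) hs2
  have hr3 : ∀ r ∈ Cfsg.Agent.Lib.Helper30.G24.P3.cert.rels, ev t r = 1 := by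
    show ∀ r ∈ Cfsg.Agent.Lib.Helper30.G24.P3.rels, ev t r = 1
    rw [Cfsg.Agent.Lib.Helper30.G24.P3.rels_eq]
    exact rels_valid t _ _ (fun q hq => by rw [(pw3 q hq).1]; exact ht _) hs3
  have c0 := cert_step t O0.cert O0.cert_ok hr0 1 (closure_empty t)
  have c1 := cert_step t O1.cert O1.cert_ok hr1 _ c0
  have c2 := cert_step t G4L2.cert G4L2.cert_ok hr2 _ c1
  have c3 := cert_step t Cfsg.Agent.Lib.Helper30.G24.P3.cert Cfsg.Agent.Lib.Helper30.G24.P3.cert_ok hr3 _ c2
  exact c3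

/-- **The Schur multiplier of the concrete `G₂(4)` is `Z/2`.** -/
theorem main0 : Cfsg.HasCyclicSchurMultiplier G0 2 := main0_of_bound hbound

universe u

/-- **The Schur multiplier of `G₂(F)`, `|F| = 4`, is `Z/2`.** -/
theorem main {F : Type u} [Field F] [Fintype F] (hF : Fintype.card F = 4) :
    Cfsg.HasCyclicSchurMultiplier ↥(Cfsg.Lie.chevG2.group F) 2 :=
  Cfsg.Agent.Lib.Helper89.MultTransfer.hasSchurMultiplier_of_mulEquiv (toDs hF) main0

end Cfsg.Agent.Lib.Helper58.G24M
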