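import Cfsg.Agent.Lib.Helper58.G24M.ModData
import Cfsg.Agent.Lib.Helper58.G24M.Rels

set_option autoImplicit false
set_option maxRecDepth 1000000
set_option maxHeartbeats 0
set_option Elab.async false

namespace Cfsg.Agent.Lib.Helper58.G24M.Mod

open Cfsg.Agent.Lib.Helper93.BigPerm Cfsg.Agent.Lib.Helper89.CosetCert Cfsg.Agent.Lib.Helper89.SafePres

theorem v_80 : Md.chk ((srelsAll.map SRel.word).getD 80 []) 0 8064 = true := by decide +kernel

theorem v_81 : Md.chk ((srelsAll.map SRel.word).getD 81 []) 0 8064 = true := by decide +kernel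

theorem v_82 : Md.chk ((srelsAll.map SRel.word).getD 82 []) 0 8064 = true := by decide +kernel

theorem v_83 : Md.chk ((srelsAll.map SRel.word).getD 83 []) 0 8064 = true := by decide +kernel

theorem v_84 : Md.chk ((srelsAll.map SRel.word).getD 84 []) 0 8064 = true := by decide +kernel

theorem v_85 : Md.chk ((srelsAll.map SRel.word).getD 85 []) 0 8064 = true := by decide +kernel

theorem v_86 : Md.chk ((srelsAll.map SRel.word).getD 86 []) 0 8064 = true := by decide +kernel

theorem v_87 : Md.chk ((srelsAll.map SRel.word).getD 87 []) 0 8064 = true := by decide +kernel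

end Cfsg.Agent.Lib.Helper58.G24M.Mod
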