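import Cfsg.Agent.Lib.Helper58.G24M.ModData
import Cfsg.Agent.Lib.Helper58.G24M.Rels

set_option autoImplicit false
set_option maxRecDepth 1000000
set_option maxHeartbeats 0
set_option Elab.async false

namespace Cfsg.Agent.Lib.Helper58.G24M.Mod

open Cfsg.Agent.Lib.Helper93.BigPerm Cfsg.Agent.Lib.Helper89.CosetCert Cfsg.Agent.Lib.Helper89.SafePres

theorem v_64 : Md.chk ((srelsAll.map SRel.word).getD 64 []) 0 8064 = true := by decide +kernel

theorem v_65 : Md.chk ((srelsAll.map SRel.word).getD 65 []) 0 8064 = true := by decide +kernel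

theorem v_66 : Md.chk ((srelsAll.map SRel.word).getD 66 []) 0 8064 = true := by decide +kernel

theorem v_67 : Md.chk ((srelsAll.map SRel.word).getD 67 []) 0 8064 = true := by decide +kernel

theorem v_68 : Md.chk ((srelsAll.map SRel.word).getD 68 []) 0 8064 = true := by decide +kernel

theorem v_69 : Md.chk ((srelsAll.map SRel.word).getD 69 []) 0 8064 = true := by decide +kernel

theorem v_70 : Md.chk ((srelsAll.map SRel.word).getD 70 []) 0 8064 = true := by decide +kernel

theorem v_71 : Md.chk ((srelsAll.map SRel.word).getD 71 []) 0 8064 = true := by decide +kernel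

end Cfsg.Agent.Lib.Helper58.G24M.Mod
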