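import Cfsg.Agent.Lib.Helper58.G24M.ModData
import Cfsg.Agent.Lib.Helper58.G24M.Rels

set_option autoImplicit false
set_option maxRecDepth 1000000
set_option maxHeartbeats 0
set_option Elab.async false

namespace Cfsg.Agent.Lib.Helper58.G24M.Mod

open Cfsg.Agent.Lib.Helper93.BigPerm Cfsg.Agent.Lib.Helper89.CosetCert Cfsg.Agent.Lib.Helper89.SafePres

theorem v_72 : Md.chk ((srelsAll.map SRel.word).getD 72 []) 0 8064 = true := by decide +kernel

theorem v_73 : Md.chk ((srelsAll.map SRel.word).getD 73 []) 0 8064 = true := by decide +kernel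

theorem v_74 : Md.chk ((srelsAll.map SRel.word).getD 74 []) 0 8064 = true := by decide +kernel

theorem v_75 : Md.chk ((srelsAll.map SRel.word).getD 75 []) 0 8064 = true := by decide +kernel

theorem v_76 : Md.chk ((srelsAll.map SRel.word).getD 76 []) 0 8064 = true := by decide +kernel

theorem v_77 : Md.chk ((srelsAll.map SRel.word).getD 77 []) 0 8064 = true := by decide +kernel

theorem v_78 : Md.chk ((srelsAll.map SRel.word).getD 78 []) 0 8064 = true := by decide +kernel

theorem v_79 : Md.chk ((srelsAll.map SRel.word).getD 79 []) 0 8064 = true := by decide +kernel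

end Cfsg.Agent.Lib.Helper58.G24M.Mod
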