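import Cfsg.Agent.Lib.Helper58.G24M.V0
import Cfsg.Agent.Lib.Helper58.G24M.V1
import Cfsg.Agent.Lib.Helper58.G24M.V2
import Cfsg.Agent.Lib.Helper58.G24M.V3
import Cfsg.Agent.Lib.Helper58.G24M.V4
import Cfsg.Agent.Lib.Helper58.G24M.V5
import Cfsg.Agent.Lib.Helper58.G24M.V6
import Cfsg.Agent.Lib.Helper58.G24M.V7
import Cfsg.Agent.Lib.Helper58.G24M.V8
import Cfsg.Agent.Lib.Helper58.G24M.V9
import Cfsg.Agent.Lib.Helper58.G24M.V10

set_option autoImplicit false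
set_option maxRecDepth 1000000
set_option maxHeartbeats 0
set_option Elab.async false

namespace Cfsg.Agent.Lib.Helper58.G24M.Mod

open Cfsg.Agent.Lib.Helper93.BigPerm Cfsg.Agent.Lib.Helper89.CosetCert Cfsg.Agent.Lib.Helper89.SafePres

theorem srels_len : (srelsAll.map SRel.word).length = 88 := by decide +kernel

theorem validAll : ∀ r ∈ srelsAll.map SRel.word, ev (Model.gm Md_ok) r = 1 := by
  refine Model.forall_mem_of_getD (srelsAll.map SRel.word) [] (fun r => ev (Model.gm Md_ok) r = 1) 88 srels_len ?_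
  intro j hj
  interval_cases j
  · exact Model.ev_one_of_chk1 Md_ok _ v_0
  · exact Model.ev_one_of_chk1 Md_ok _ v_1
  · exact Model.ev_one_of_chk1 Md_ok _ v_2
  · exact Model.ev_one_of_chk1 Md_ok _ v_3
  · exact Model.ev_one_of_chk1 Md_ok _ v_4
  · exact Model.ev_one_of_chk1 Md_ok _ v_5
  · exact Model.ev_one_of_chk1 Md_ok _ v_6
  · exact Model.ev_one_of_chk1 Md_ok _ v_7
  · exact Model.ev_one_of_chk1 Md_ok _ v_8
  · exact Model.ev_one_of_chk1 Md_ok _ v_9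
  · exact Model.ev_one_of_chk1 Md_ok _ v_10
  · exact Model.ev_one_of_chk1 Md_ok _ v_11
  · exact Model.ev_one_of_chk1 Md_ok _ v_12
  · exact Model.ev_one_of_chk1 Md_ok _ v_13
  · exact Model.ev_one_of_chk1 Md_ok _ v_14
  · exact Model.ev_one_of_chk1 Md_ok _ v_15
  · exact Model.ev_one_of_chk1 Md_ok _ v_16
  · exact Model.ev_one_of_chk1 Md_ok _ v_17
  · exact Model.ev_one_of_chk1 Md_ok _ v_18
  · exact Model.ev_one_of_chk1 Md_ok _ v_19
  · exact Model.ev_one_of_chk1 Md_ok _ v_20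
  · exact Model.ev_one_of_chk1 Md_ok _ v_21
  · exact Model.ev_one_of_chk1 Md_ok _ v_22
  · exact Model.ev_one_of_chk1 Md_ok _ v_23
  · exact Model.ev_one_of_chk1 Md_ok _ v_24
  · exact Model.ev_one_of_chk1 Md_ok _ v_25
  · exact Model.ev_one_of_chk1 Md_ok _ v_26
  · exact Model.ev_one_of_chk1 Md_ok _ v_27
  · exact Model.ev_one_of_chk1 Md_ok _ v_28
  · exact Model.ev_one_of_chk1 Md_ok _ v_29
  · exact Model.ev_one_of_chk1 Md_ok _ v_30
  · exact Model.ev_one_of_chk1 Md_ok _ v_31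
  · exact Model.ev_one_of_chk1 Md_ok _ v_32
  · exact Model.ev_one_of_chk1 Md_ok _ v_33
  · exact Model.ev_one_of_chk1 Md_ok _ v_34
  · exact Model.ev_one_of_chk1 Md_ok _ v_35
  · exact Model.ev_one_of_chk1 Md_ok _ v_36
  · exact Model.ev_one_of_chk1 Md_ok _ v_37
  · exact Model.ev_one_of_chk1 Md_ok _ v_38
  · exact Model.ev_one_of_chk1 Md_ok _ v_39
  · exact Model.ev_one_of_chk1 Md_ok _ v_40
  · exact Model.ev_one_of_chk1 Md_ok _ v_41
  · exact Model.ev_one_of_chk1 Md_ok _ v_42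
  · exact Model.ev_one_of_chk1 Md_ok _ v_43
  · exact Model.ev_one_of_chk1 Md_ok _ v_44
  · exact Model.ev_one_of_chk1 Md_ok _ v_45
  · exact Model.ev_one_of_chk1 Md_ok _ v_46
  · exact Model.ev_one_of_chk1 Md_ok _ v_47
  · exact Model.ev_one_of_chk1 Md_ok _ v_48
  · exact Model.ev_one_of_chk1 Md_ok _ v_49
  · exact Model.ev_one_of_chk1 Md_ok _ v_50
  · exact Model.ev_one_of_chk1 Md_ok _ v_51
  · exact Model.ev_one_of_chk1 Md_ok _ v_52
  · exact Model.ev_one_of_chk1 Md_ok _ v_53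
  · exact Model.ev_one_of_chk1 Md_ok _ v_54
  · exact Model.ev_one_of_chk1 Md_ok _ v_55
  · exact Model.ev_one_of_chk1 Md_ok _ v_56
  · exact Model.ev_one_of_chk1 Md_ok _ v_57
  · exact Model.ev_one_of_chk1 Md_ok _ v_58
  · exact Model.ev_one_of_chk1 Md_ok _ v_59
  · exact Model.ev_one_of_chk1 Md_ok _ v_60
  · exact Model.ev_one_of_chk1 Md_ok _ v_61
  · exact Model.ev_one_of_chk1 Md_ok _ v_62
  · exact Model.ev_one_of_chk1 Md_ok _ v_63
  · exact Model.ev_one_of_chk1 Md_ok _ v_64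
  · exact Model.ev_one_of_chk1 Md_ok _ v_65
  · exact Model.ev_one_of_chk1 Md_ok _ v_66
  · exact Model.ev_one_of_chk1 Md_ok _ v_67
  · exact Model.ev_one_of_chk1 Md_ok _ v_68
  · exact Model.ev_one_of_chk1 Md_ok _ v_69
  · exact Model.ev_one_of_chk1 Md_ok _ v_70
  · exact Model.ev_one_of_chk1 Md_ok _ v_71
  · exact Model.ev_one_of_chk1 Md_ok _ v_72
  · exact Model.ev_one_of_chk1 Md_ok _ v_73
  · exact Model.ev_one_of_chk1 Md_ok _ v_74
  · exact Model.ev_one_of_chk1 Md_ok _ v_75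
  · exact Model.ev_one_of_chk1 Md_ok _ v_76
  · exact Model.ev_one_of_chk1 Md_ok _ v_77
  · exact Model.ev_one_of_chk1 Md_ok _ v_78
  · exact Model.ev_one_of_chk1 Md_ok _ v_79
  · exact Model.ev_one_of_chk1 Md_ok _ v_80
  · exact Model.ev_one_of_chk1 Md_ok _ v_81
  · exact Model.ev_one_of_chk1 Md_ok _ v_82
  · exact Model.ev_one_of_chk1 Md_ok _ v_83
  · exact Model.ev_one_of_chk1 Md_ok _ v_84
  · exact Model.ev_one_of_chk1 Md_ok _ v_85
  · exact Model.ev_one_of_chk1 Md_ok _ v_86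
  · exact Model.ev_one_of_chk1 Md_ok _ v_87

end Cfsg.Agent.Lib.Helper58.G24M.Mod
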